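/-
Recognition of A4, A5, A6 from their counts.
-/
import Cfsg.Agent.S3995
import Cfsg.Agent.Lib.Recog.OrderSixty
import Cfsg.Agent.Lib.Recog.Simple360
import Mathlib.GroupTheory.SpecificGroups.Alternating.Simple

set_option autoImplicit false

namespace Cfsg.Agent.NseAlt

open Cfsg.Agent.S3995

variable {G : Type*} [Group G] [Finite G]

theorem cnt_le_of_normal_sylow {p : ℕ} [Fact p.Prime] (h1 : Nat.card (Sylow p G) = 1)
    (P : Sylow p G) : cnt G p ≤ Nat.card P := by
  haveI : Subsingleton (Sylow p G) := (Nat.card_eq_one_iff_unique.1 h1).1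
  refine Nat.card_le_card_of_injective
    (fun g : {g : G // orderOf g = p} => (⟨g.1, ?_⟩ : (P : Subgroup G))) ?_
  · obtain ⟨Q, hQ⟩ := (IsPGroup.of_card (p := p) (n := 1)
      (show Nat.card (Subgroup.zpowers g.1) = p ^ 1 by rw [Nat.card_zpowers, g.2, pow_one])).exists_le_sylow
    rw [Subsingleton.elim P Q]
    exact hQ (Subgroup.mem_zpowers g.1)
  · intro a b h
    exact Subtype.ext (congrArg (fun x : (P : Subgroup G) => (x : G)) h)

theorem equiv_alt4 (hG : Nat.card G = 12) (h3 : cnt G 3 = 8) :
    Nonempty (G ≃* alternatingGroup (Fin 4)) := by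
  haveI : Fact (Nat.Prime 3) := ⟨Nat.prime_three⟩
  have hP : ∀ P : Sylow 3 G, Nat.card P = 3 := fun P => by
    rw [P.card_eq_multiplicity, hG, show (12 : ℕ) = 3 * 4 by rfl,
      Nat.factorization_mul (by norm_num) (by norm_num)]
    simp [Nat.prime_three.factorization_self,
      Nat.factorization_eq_zero_of_not_dvd (show ¬ 3 ∣ 4 by norm_num)]
  obtain ⟨P₀⟩ : Nonempty (Sylow 3 G) := inferInstance
  have hidx : ∀ P : Sylow 3 G, (P : Subgroup G).index = 4 := fun P => by
    have h := (P : Subgroup G).card_mul_index
    rw [hG, hP P] at h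
    omega
  have hn : Nat.card (Sylow 3 G) = 4 := by
    have h1 := card_sylow_modEq_one 3 G
    have h2 : Nat.card (Sylow 3 G) ∣ 4 := hidx P₀ ▸ P₀.card_dvd_index
    have hle := Nat.le_of_dvd (by norm_num) h2
    have hne : Nat.card (Sylow 3 G) ≠ 1 := fun e => by
      have := cnt_le_of_normal_sylow e P₀
      rw [h3, hP] at this
      omega
    unfold Nat.ModEq at h1
    omega
  have hnorm : ∀ P : Sylow 3 G, Subgroup.normalizer (P : Set G) = (P : Subgroup G) := by
    intro P
    refine (Subgroup.eq_of_le_of_card_ge Subgroup.le_normalizer ?_).symm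
    have h := (Subgroup.normalizer (P : Set G)).card_mul_index
    rw [← P.card_eq_index_normalizer, hn, hG] at h
    show Nat.card (Subgroup.normalizer (P : Set G)) ≤ _
    rw [hP]
    omega
  let φ := MulAction.toPermHom G (Sylow 3 G)
  have hinj : Function.Injective φ := by
    rw [injective_iff_map_eq_one]
    intro g hg
    have hmem : ∀ P : Sylow 3 G, g ∈ (P : Subgroup G) := fun P => by
      rw [← hnorm P, ← Sylow.smul_eq_iff_mem_normalizer]
      exact Equiv.ext_iff.1 hg P
    by_contra hg1
    have hne : ∃ P Q : Sylow 3 G, P ≠ Q := by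
      by_contra hh
      push Not at hh
      haveI : Subsingleton (Sylow 3 G) := ⟨hh⟩
      have := Finite.card_le_one_iff_subsingleton.2 ‹Subsingleton (Sylow 3 G)›
      omega
    obtain ⟨P, Q, hPQ⟩ := hne
    refine hPQ (Sylow.ext ?_)
    have hz : ∀ R : Sylow 3 G, Subgroup.zpowers g = (R : Subgroup G) := fun R => by
      refine Subgroup.eq_of_le_of_card_ge (Subgroup.zpowers_le.2 (hmem R)) ?_
      rw [hP, Nat.card_zpowers]
      have hd := Subgroup.orderOf_dvd_natCard (R : Subgroup G) (hmem R)
      rw [hP] at hd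
      rcases (Nat.dvd_prime Nat.prime_three).1 hd with e | e
      · exact absurd (orderOf_eq_one_iff.1 e) hg1
      · omega
    exact (hz P).symm.trans (hz Q)
  obtain ⟨e⟩ : Nonempty (Sylow 3 G ≃ Fin 4) := ⟨Finite.equivFinOfCardEq hn⟩
  let ψ : G →* Equiv.Perm (Fin 4) := e.permCongrHom.toMonoidHom.comp φ
  have hψ : Function.Injective ψ := e.permCongrHom.injective.comp hinj
  have hcard : Nat.card ψ.range = 12 := by
    rw [← Nat.card_congr (MonoidHom.ofInjective hψ).toEquiv, hG]
  have hidx2 : ψ.range.index = 2 := by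
    have h := ψ.range.card_mul_index
    rw [hcard, Nat.card_perm, Nat.card_fin, show Nat.factorial 4 = 24 from rfl] at h
    omega
  exact ⟨(MonoidHom.ofInjective hψ).trans
    (MulEquiv.subgroupCongr (Equiv.Perm.eq_alternatingGroup_of_index_eq_two hidx2))⟩

theorem equiv_alt5 (hG : Nat.card G = 60) (h5 : cnt G 5 = 24) :
    Nonempty (G ≃* alternatingGroup (Fin 5)) := by
  haveI : Fact (Nat.Prime 5) := ⟨by norm_num⟩
  refine OrderSixty.equiv_A5 hG ((OrderSixty.sylow_card_cases hG).resolve_left fun e => ?_)
  obtain ⟨P⟩ : Nonempty (Sylow 5 G) := inferInstance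
  have := cnt_le_of_normal_sylow e P
  rw [h5, OrderSixty.card_sylow_five hG P] at this
  omega

theorem card_mod_five (hord : ∀ g : G, orderOf g ≤ 5) (K : Subgroup G) (hK : ¬ 5 ∣ Nat.card K)
    (b : G) (hb : orderOf b = 5) (hn : b ∈ Subgroup.normalizer (K : Set G)) :
    Nat.card K % 5 = 1 := by
  haveI : Fact (Nat.Prime 5) := ⟨by norm_num⟩
  let B : Subgroup G := Subgroup.zpowers b
  have hBn : B ≤ Subgroup.normalizer (K : Set G) := Subgroup.zpowers_le.2 hn
  let φ : B →* MulAut K := K.normalizerMonoidHom.comp (Subgroup.inclusion hBn)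
  letI : MulAction B K := MulAction.compHom K φ
  have hBp : IsPGroup 5 B := IsPGroup.of_card (n := 1) (by rw [Nat.card_zpowers, hb, pow_one])
  have h := hBp.card_modEq_card_fixedPoints (α := K)
  have hfix : Nat.card (MulAction.fixedPoints B K) = 1 := by
    rw [Nat.card_eq_one_iff_unique]
    have hone : ∀ q ∈ MulAction.fixedPoints B K, q = 1 := by
      intro q hq
      have hq' : b * (q : G) * b⁻¹ = q := congrArg Subtype.val (hq ⟨b, Subgroup.mem_zpowers b⟩)
      have hc : Commute b (q : G) := mul_inv_eq_iff_eq_mul.1 hq'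
      have hqK : orderOf (q : G) ∣ Nat.card K := Subgroup.orderOf_dvd_natCard K q.2
      have hcop : (orderOf b).Coprime (orderOf (q : G)) := by
        rw [hb, (show Nat.Prime 5 by norm_num).coprime_iff_not_dvd]
        exact fun h => hK (h.trans hqK)
      have h5 := hord (b * q)
      rw [hc.orderOf_mul_eq_mul_orderOf_of_coprime hcop, hb] at h5
      have : orderOf (q : G) = 1 := by have := orderOf_pos (q : G); omega
      exact Subtype.ext (orderOf_eq_one_iff.1 this)
    refine ⟨⟨fun x y => Subtype.ext ((hone x.1 x.2).trans (hone y.1 y.2).symm)⟩, ⟨⟨1, fun a => ?_⟩⟩⟩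
    show φ a 1 = 1
    exact map_one _
  rw [hfix] at h
  unfold Nat.ModEq at h
  omega

theorem mem_of_prime_order {p : ℕ} [Fact p.Prime] (N : Subgroup G) [N.Normal]
    (hN : ¬ p ∣ N.index) (x : G) (hx : orderOf x = p) : x ∈ N := by
  rw [← QuotientGroup.eq_one_iff, ← orderOf_eq_one_iff]
  have h1 : orderOf (x : G ⧸ N) ∣ p := hx ▸ orderOf_map_dvd (QuotientGroup.mk' N) x
  rcases (Nat.dvd_prime Fact.out).1 h1 with e | e
  · exact e
  · exact absurd (e ▸ (Subgroup.index_eq_card N).symm ▸ orderOf_dvd_natCard (x : G ⧸ N)) hN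

theorem equiv_alt6 (hG : Nat.card G = 360) (hord : ∀ g : G, orderOf g ≤ 5) (h3 : cnt G 3 = 80)
    (h5 : cnt G 5 = 144) : Nonempty (G ≃* alternatingGroup (Fin 6)) := by
  haveI : Fact (Nat.Prime 5) := ⟨by norm_num⟩
  haveI : Fact (Nat.Prime 3) := ⟨Nat.prime_three⟩
  haveI : Nontrivial G := Finite.one_lt_card_iff_nontrivial.1 (by omega)
  haveI : IsSimpleGroup G := by
    refine ⟨fun N hN => ?_⟩
    by_contra hc
    rw [not_or] at hc
    obtain ⟨hNb, hNt⟩ := hc
    have hdvd : Nat.card N ∣ 360 := hG ▸ N.card_subgroup_dvd_card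
    have hci : Nat.card N * N.index = 360 := hG ▸ N.card_mul_index
    have hi1 : N.index ≠ 1 := fun e => hNt (Subgroup.index_eq_one.1 e)
    by_cases h5N : 5 ∣ Nat.card N
    · have h5i : ¬ 5 ∣ N.index := fun h => by
        have := Nat.mul_dvd_mul h5N h
        rw [hci] at this
        omega
      have hm5 : ∀ x : G, orderOf x = 5 → x ∈ N := mem_of_prime_order N h5i
      have hc5 : cnt G 5 + 1 ≤ Nat.card N := by
        have := Nat.card_le_card_of_injective
          (Sum.elim (fun g : {g : G // orderOf g = 5} => (⟨g.1, hm5 _ g.2⟩ : N)) (fun _ : Unit => 1)) ?_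
        · simpa [Nat.card_sum, cnt] using this
        · rintro (a | a) (b | b) h
          · simp only [Sum.elim_inl, Subtype.mk.injEq] at h
            exact congrArg Sum.inl (Subtype.ext h)
          · have := congrArg (fun z : N => orderOf (z : G)) h
            simp [a.2] at this
          · have := congrArg (fun z : N => orderOf (z : G)) h
            simp [b.2] at this
          · rfl
      have hNcard : Nat.card N = 180 := by
        have : N.index = 2 := by
          have h2 : 145 * N.index ≤ 360 := hci ▸ Nat.mul_le_mul_right _ (by omega)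
          have : N.index ≠ 0 := Subgroup.index_ne_zero_of_finite
          omega
        rw [this] at hci
        omega
      have hm3 : ∀ x : G, orderOf x = 3 → x ∈ N := mem_of_prime_order N (by
        rw [hNcard] at hci
        omega)
      have := Nat.card_le_card_of_injective
        (Sum.elim (fun g : {g : G // orderOf g = 5} => (⟨g.1, hm5 _ g.2⟩ : N))
          (fun g : {g : G // orderOf g = 3} => (⟨g.1, hm3 _ g.2⟩ : N))) ?_
      · simp [Nat.card_sum] at this
        unfold cnt at h3 h5
        omega
      · rintro (a | a) (b | b) h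
        · simp only [Sum.elim_inl, Subtype.mk.injEq] at h
          exact congrArg Sum.inl (Subtype.ext h)
        · have := congrArg (fun z : N => orderOf (z : G)) h
          simp [a.2, b.2] at this
        · have := congrArg (fun z : N => orderOf (z : G)) h
          simp [a.2, b.2] at this
        · simp only [Sum.elim_inr, Subtype.mk.injEq] at h
          exact congrArg Sum.inr (Subtype.ext h)
    · have h72 : Nat.card N ∣ 72 :=
        (Nat.Coprime.dvd_of_dvd_mul_left
          (((show Nat.Prime 5 by norm_num).coprime_iff_not_dvd.2 h5N).symm)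
          (show Nat.card N ∣ 5 * 72 from hdvd))
      have hN1 : 1 < Nat.card N := by
        rcases Nat.lt_or_ge 1 (Nat.card N) with h | h
        · exact h
        · exact absurd (Subgroup.card_eq_one.1 (le_antisymm h Nat.card_pos)) hNb
      have h5G : 5 ∣ Nat.card G := by rw [hG]; norm_num
      by_cases h3N : 3 ∣ Nat.card N
      · obtain ⟨Q⟩ : Nonempty (Sylow 3 N) := inferInstance
        have hfr := Sylow.normalizer_sup_eq_top (N := N) Q
        set K := (Q : Subgroup N).map N.subtype with hK
        have hnd : 5 ∣ Nat.card (Subgroup.normalizer (K : Set G)) := by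
          have e := Subgroup.relIndex_sup_right (H := Subgroup.normalizer (K : Set G)) (K := N)
          rw [hfr, Subgroup.relIndex_top_right] at e
          have h5i : 5 ∣ N.index :=
            ((show Nat.Prime 5 by norm_num).dvd_mul.1 (show 5 ∣ Nat.card N * N.index from
              hci ▸ (by norm_num))).resolve_left h5N
          exact (e ▸ h5i).trans (Subgroup.relIndex_dvd_card _ _)
        obtain ⟨⟨b, hbn⟩, hb⟩ := exists_prime_orderOf_dvd_card' 5 hnd
        have hKc : Nat.card K = Nat.card Q := Subgroup.card_map_of_injective N.subtype_injective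
        have hQ : Nat.card Q = 3 ∨ Nat.card Q = 9 := by
          have hd : Nat.card Q ∣ 72 := ((Q : Subgroup N).card_subgroup_dvd_card).trans h72
          obtain ⟨k, hk⟩ := IsPGroup.iff_card.1 Q.2
          have h3Q : 3 ∣ Nat.card Q := Q.dvd_card_of_dvd_card h3N
          rw [hk] at hd h3Q ⊢
          have : k ≤ 3 := by
            by_contra hlt
            have := Nat.le_of_dvd (by norm_num) hd
            have : 3 ^ 4 ≤ 3 ^ k := Nat.pow_le_pow_right (by norm_num) (by omega)
            omega
          interval_cases k <;> simp_all (config := { decide := true })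
        have := card_mod_five hord K (by rw [hKc]; rcases hQ with e | e <;> rw [e] <;> norm_num) b
          (by simpa [Subgroup.orderOf_mk] using hb) hbn
        rw [hKc] at this
        omega
      · obtain ⟨b, hb⟩ := exists_prime_orderOf_dvd_card' (G := G) 5 h5G
        have := card_mod_five hord N h5N b hb (by
          rw [Subgroup.normalizer_eq_top]; trivial)
        have h8 : Nat.card N ∣ 8 := Nat.Coprime.dvd_of_dvd_mul_left
          (((Nat.prime_three.coprime_iff_not_dvd).2 h3N).symm.pow_right 2)
          (show Nat.card N ∣ 3 ^ 2 * 8 from h72)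
        have := Nat.le_of_dvd (by norm_num) h8
        interval_cases (Nat.card N) <;> omega
  haveI : IsSimpleGroup (alternatingGroup (Fin 6)) := alternatingGroup.isSimpleGroup (by simp)
  refine Simple360.nonempty_equiv hG ?_
  have h2 := two_mul_nat_card_alternatingGroup (α := Fin 6)
  rw [Nat.card_perm, Nat.card_fin, show Nat.factorial 6 = 720 from rfl] at h2
  omega

end Cfsg.Agent.NseAlt
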