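/-
Same-order counts in the alternating groups of degree four, five and six.
-/
import Cfsg.Agent.S3995
import Mathlib.GroupTheory.SpecificGroups.Alternating

set_option autoImplicit false

namespace Cfsg.Agent.NseAlt

open Cfsg.Agent.S3995

theorem card_pow_filter {G : Type*} [Group G] [Fintype G] [DecidableEq G] (k : ℕ) :
    Nat.card {g : G // g ^ k = 1} = (Finset.univ.filter fun g : G => g ^ k = 1).card := by
  rw [Nat.card_eq_fintype_card, Fintype.card_subtype]

theorem image_eq {G : Type*} [Group G] [Finite G] {c2 c3 c4 c5 : ℕ} (h4 : c4 ≠ 0 → 4 ∣ Nat.card G)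
    (hexp : ∀ g : G, orderOf g ∈ [1, 2, 3] ∨ (c4 ≠ 0 ∧ orderOf g = 4) ∨ (c5 ≠ 0 ∧ orderOf g = 5))
    (h2 : cnt G 2 = c2) (h3 : cnt G 3 = c3) (h4' : cnt G 4 = c4) (h5 : cnt G 5 = c5)
    (hc2 : c2 ≠ 0) (hc3 : c3 ≠ 0) (S : Set ℕ)
    (hS : S = {x | x = 1 ∨ x = c2 ∨ x = c3 ∨ (c4 ≠ 0 ∧ x = c4) ∨ (c5 ≠ 0 ∧ x = c5)}) :
    (fun m : ℕ => Nat.card {g : G // orderOf g = m}) '' Set.range (orderOf : G → ℕ) = S := by
  have hex : ∀ m, cnt G m ≠ 0 → m ∈ Set.range (orderOf : G → ℕ) := fun m hm => by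
    by_contra h
    exact hm (cnt_eq_zero fun ⟨x, hx⟩ => h ⟨x, hx⟩)
  ext x
  rw [hS]
  constructor
  · rintro ⟨_, ⟨g, rfl⟩, rfl⟩
    show cnt G (orderOf g) = 1 ∨ _
    rcases hexp g with h | ⟨h0, h⟩ | ⟨h0, h⟩
    · simp only [List.mem_cons, List.not_mem_nil, or_false] at h
      rcases h with h | h | h <;> rw [h]
      · exact Or.inl cnt_one
      · exact Or.inr (Or.inl h2)
      · exact Or.inr (Or.inr (Or.inl h3))
    · rw [h]; exact Or.inr (Or.inr (Or.inr (Or.inl ⟨h0, h4'⟩)))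
    · rw [h]; exact Or.inr (Or.inr (Or.inr (Or.inr ⟨h0, h5⟩)))
  · rintro (rfl | rfl | rfl | ⟨h0, rfl⟩ | ⟨h0, rfl⟩)
    · exact ⟨1, ⟨1, orderOf_one⟩, cnt_one⟩
    · exact ⟨2, hex 2 (by omega), h2⟩
    · exact ⟨3, hex 3 (by omega), h3⟩
    · exact ⟨4, hex 4 (by omega), h4'⟩
    · exact ⟨5, hex 5 (by omega), h5⟩

theorem order_cases {G : Type*} [Group G] (g : G)
    (h : g ^ 2 = 1 ∨ g ^ 3 = 1 ∨ g ^ 4 = 1 ∨ g ^ 5 = 1) :
    orderOf g ∈ [1, 2, 3] ∨ orderOf g = 4 ∨ orderOf g = 5 := by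
  rcases h with h | h | h | h
  all_goals
    have h' := orderOf_dvd_of_pow_eq_one h
    have hle := Nat.le_of_dvd (by norm_num) h'
    simp only [List.mem_cons, List.not_mem_nil, or_false]
    interval_cases hk : orderOf g <;> simp_all

theorem counts {G : Type*} [Group G] [Finite G] {a b c d : ℕ}
    (ha : Nat.card {g : G // g ^ 2 = 1} = a) (hb : Nat.card {g : G // g ^ 3 = 1} = b)
    (hc : Nat.card {g : G // g ^ 4 = 1} = c) (hd : Nat.card {g : G // g ^ 5 = 1} = d) :
    cnt G 2 = a - 1 ∧ cnt G 3 = b - 1 ∧ cnt G 4 = c - a ∧ cnt G 5 = d - 1 := by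
  rw [card_pow_eq_one 2 two_ne_zero, Nat.prime_two.divisors, Finset.sum_pair (by norm_num), cnt_one] at ha
  rw [card_pow_eq_one 3 (by norm_num), Nat.prime_three.divisors, Finset.sum_pair (by norm_num), cnt_one] at hb
  rw [card_pow_eq_one 5 (by norm_num), (show Nat.Prime 5 by norm_num).divisors,
    Finset.sum_pair (by norm_num), cnt_one] at hd
  rw [card_pow_eq_one 4 (by norm_num), show (4 : ℕ).divisors = {1, 2, 4} by decide,
    Finset.sum_insert (by decide), Finset.sum_pair (by norm_num), cnt_one] at hc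
  omega

set_option maxRecDepth 10000 in
theorem alt4_data :
    (∀ g : alternatingGroup (Fin 4), g ^ 2 = 1 ∨ g ^ 3 = 1) ∧
    (Finset.univ.filter fun g : alternatingGroup (Fin 4) => g ^ 2 = 1).card = 4 ∧
    (Finset.univ.filter fun g : alternatingGroup (Fin 4) => g ^ 3 = 1).card = 9 ∧
    (Finset.univ.filter fun g : alternatingGroup (Fin 4) => g ^ 4 = 1).card = 4 ∧
    (Finset.univ.filter fun g : alternatingGroup (Fin 4) => g ^ 5 = 1).card = 1 := by
  decide +kernel

theorem alt5_data :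
    (∀ g : alternatingGroup (Fin 5), g ^ 2 = 1 ∨ g ^ 3 = 1 ∨ g ^ 5 = 1) ∧
    (Finset.univ.filter fun g : alternatingGroup (Fin 5) => g ^ 2 = 1).card = 16 ∧
    (Finset.univ.filter fun g : alternatingGroup (Fin 5) => g ^ 3 = 1).card = 21 ∧
    (Finset.univ.filter fun g : alternatingGroup (Fin 5) => g ^ 4 = 1).card = 16 ∧
    (Finset.univ.filter fun g : alternatingGroup (Fin 5) => g ^ 5 = 1).card = 25 := by
  decide +kernel

theorem alt6_data :
    (∀ g : alternatingGroup (Fin 6), g ^ 2 = 1 ∨ g ^ 3 = 1 ∨ g ^ 4 = 1 ∨ g ^ 5 = 1) ∧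
    (Finset.univ.filter fun g : alternatingGroup (Fin 6) => g ^ 2 = 1).card = 46 ∧
    (Finset.univ.filter fun g : alternatingGroup (Fin 6) => g ^ 3 = 1).card = 81 ∧
    (Finset.univ.filter fun g : alternatingGroup (Fin 6) => g ^ 4 = 1).card = 136 ∧
    (Finset.univ.filter fun g : alternatingGroup (Fin 6) => g ^ 5 = 1).card = 145 := by
  decide +kernel

theorem alt4_image :
    (fun m : ℕ => Nat.card {g : ↥(alternatingGroup (Fin 4)) // orderOf g = m}) ''
      Set.range (orderOf : ↥(alternatingGroup (Fin 4)) → ℕ) = {x | x ∈ [1, 3, 8]} := by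
  obtain ⟨h, a, b, c, d⟩ := alt4_data
  rw [← card_pow_filter] at a b c d
  obtain ⟨e2, e3, e4, e5⟩ := counts a b c d
  refine image_eq (by simp) (fun g => ?_) e2 e3 e4 e5 (by norm_num) (by norm_num) _
    (by ext x; simp)
  rcases h g with h' | h'
  all_goals
    left
    have hle := Nat.le_of_dvd (by norm_num) (orderOf_dvd_of_pow_eq_one h')
    have hpos := orderOf_pos g
    simp only [List.mem_cons, List.not_mem_nil, or_false]
    omega

theorem alt5_image :
    (fun m : ℕ => Nat.card {g : ↥(alternatingGroup (Fin 5)) // orderOf g = m}) ''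
      Set.range (orderOf : ↥(alternatingGroup (Fin 5)) → ℕ) = {x | x ∈ [1, 15, 20, 24]} := by
  obtain ⟨h, a, b, c, d⟩ := alt5_data
  rw [← card_pow_filter] at a b c d
  obtain ⟨e2, e3, e4, e5⟩ := counts a b c d
  refine image_eq (by simp) (fun g => ?_) e2 e3 e4 e5 (by norm_num) (by norm_num) _
    (by ext x; simp)
  rcases h g with h' | h' | h'
  · left
    have hle := Nat.le_of_dvd (by norm_num) (orderOf_dvd_of_pow_eq_one h')
    have hpos := orderOf_pos g
    simp only [List.mem_cons, List.not_mem_nil, or_false]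
    omega
  · left
    have hle := Nat.le_of_dvd (by norm_num) (orderOf_dvd_of_pow_eq_one h')
    have hpos := orderOf_pos g
    simp only [List.mem_cons, List.not_mem_nil, or_false]
    omega
  · rcases (Nat.dvd_prime (show Nat.Prime 5 by norm_num)).1 (orderOf_dvd_of_pow_eq_one h') with e | e
    · exact Or.inl (by simp [e])
    · exact Or.inr (Or.inr ⟨by norm_num, e⟩)

theorem alt6_image :
    (fun m : ℕ => Nat.card {g : ↥(alternatingGroup (Fin 6)) // orderOf g = m}) ''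
      Set.range (orderOf : ↥(alternatingGroup (Fin 6)) → ℕ) = {x | x ∈ [1, 45, 80, 90, 144]} := by
  obtain ⟨h, a, b, c, d⟩ := alt6_data
  rw [← card_pow_filter] at a b c d
  obtain ⟨e2, e3, e4, e5⟩ := counts a b c d
  refine image_eq (fun _ => ?_) (fun g => ?_) e2 e3 e4 e5 (by norm_num) (by norm_num) _
    (by ext x; simp)
  · by_contra hn
    have : cnt (↥(alternatingGroup (Fin 6))) 4 = 0 :=
      cnt_eq_zero fun ⟨x, hx⟩ => hn (hx ▸ orderOf_dvd_natCard x)
    omega
  · rcases order_cases g (h g) with e | e | e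
    · exact Or.inl e
    · exact Or.inr (Or.inl ⟨by norm_num, e⟩)
    · exact Or.inr (Or.inr ⟨by norm_num, e⟩)

end Cfsg.Agent.NseAlt
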