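/-
A kernel-checked search certificate for same-order count functions.
-/
import Cfsg.Agent.S3995
import Cfsg.Agent.Lib.FGStruct.Counting

set_option autoImplicit false

namespace Cfsg.Agent.NseAlt

open Cfsg.Agent.S3995

/-- An element order, its proper divisors above one, its prime power parts, admissible counts. -/
abbrev Row := ℕ × List ℕ × List ℕ × List ℕ

/-- The divisibility test. -/
def ok (c : List (ℕ × ℕ)) (m : ℕ) : Bool :=
  (c.map fun p => if m % p.1 == 0 then p.2 else 0).sum % m == 0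

/-- Whether an order is present. -/
def has (c : List (ℕ × ℕ)) (d : ℕ) : Bool := (c.map Prod.fst).contains d

/-- Total count. -/
def total (c : List (ℕ × ℕ)) : ℕ := (c.map Prod.snd).sum

/-- Test at a complete assignment. -/
def leaf (S : List ℕ) (sol : List (ℕ × ℕ)) (c : List (ℕ × ℕ)) : Bool :=
  (c == sol) || S.any (fun v => !(c.map Prod.snd).contains v) ||
    (List.range (total c + 1)).any fun n => decide (2 ≤ n) && (total c % n == 0) &&
      ((c.map Prod.fst).all (fun d => Nat.gcd n d == 1) || !ok c n)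

/-- The search. -/
def go (S : List ℕ) (sol : List (ℕ × ℕ)) : List Row → List (ℕ × ℕ) → Bool
  | [], c => leaf S sol c
  | (m, need, pps, vals) :: rest, c =>
    ((pps.all (has c) && !ok c m) || go S sol rest c) &&
      (!need.all (has c) || vals.all fun v => !ok ((m, v) :: c) m || go S sol rest ((m, v) :: c))

/-- No later row divides an earlier one, the auxiliary data are as described. -/
def rowsOk : List Row → Bool
  | [] => true
  | (m, need, pps, _) :: rest =>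
    (decide (2 < m) && rest.all (fun r => decide (r.1 ≠ m) && !(m % r.1 == 0)) &&
      need.all (fun d => (m % d == 0) && decide (d ≠ m)) && decide (pps.prod = m) &&
      decide (List.Pairwise Nat.Coprime pps)) && rowsOk rest

def rows4 : List Row :=
  [(3, [], [3], [8]),
   (6, [2, 3], [2, 3], [8]),
   (4, [2], [4], [8]),
   (12, [2, 3, 4, 6], [4, 3], [8]),
   (8, [2, 4], [8], [8]),
   (24, [2, 3, 4, 6, 8, 12], [8, 3], [8]),
   (16, [2, 4, 8], [16], [8])]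

def sol4 : List (ℕ × ℕ) := [(3, 8), (2, 3), (1, 1)]

def rows5 : List Row :=
  [(3, [], [3], [20, 24]),
   (6, [2, 3], [2, 3], [20, 24]),
   (4, [2], [4], [20, 24]),
   (12, [2, 3, 4, 6], [4, 3], [20, 24]),
   (5, [], [5], [20, 24]),
   (10, [2, 5], [2, 5], [20, 24]),
   (15, [3, 5], [3, 5], [24]),
   (20, [2, 4, 5, 10], [4, 5], [24]),
   (30, [2, 3, 5, 6, 10, 15], [2, 3, 5], [24]),
   (8, [2, 4], [8], [20, 24]),
   (24, [2, 3, 4, 6, 8, 12], [8, 3], [24]),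
   (9, [3], [9], [24]),
   (18, [2, 3, 6, 9], [2, 9], [24]),
   (36, [2, 3, 4, 6, 9, 12, 18], [4, 9], [24]),
   (45, [3, 5, 9, 15], [9, 5], [24]),
   (72, [2, 3, 4, 6, 8, 9, 12, 18, 24, 36], [8, 9], [24]),
   (90, [2, 3, 5, 6, 9, 10, 15, 18, 30, 45], [2, 9, 5], [24]),
   (16, [2, 4, 8], [16], [24]),
   (25, [5], [25], [20]),
   (50, [2, 5, 10, 25], [2, 25], [20])]

def sol5 : List (ℕ × ℕ) := [(5, 24), (3, 20), (2, 15), (1, 1)]

def rows6 : List Row :=
  [(3, [], [3], [80, 90, 144]),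
   (6, [2, 3], [2, 3], [80, 90, 144]),
   (4, [2], [4], [80, 90, 144]),
   (12, [2, 3, 4, 6], [4, 3], [80, 144]),
   (5, [], [5], [80, 144]),
   (10, [2, 5], [2, 5], [80, 144]),
   (15, [3, 5], [3, 5], [80, 144]),
   (20, [2, 4, 5, 10], [4, 5], [80, 144]),
   (30, [2, 3, 5, 6, 10, 15], [2, 3, 5], [80, 144]),
   (60, [2, 3, 4, 5, 6, 10, 12, 15, 20, 30], [4, 3, 5], [80, 144]),
   (7, [], [7], [90, 144]),
   (14, [2, 7], [2, 7], [90, 144]),
   (21, [3, 7], [3, 7], [144]),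
   (28, [2, 4, 7, 14], [4, 7], [144]),
   (35, [5, 7], [5, 7], [144]),
   (42, [2, 3, 6, 7, 14, 21], [2, 3, 7], [144]),
   (70, [2, 5, 7, 10, 14, 35], [2, 5, 7], [144]),
   (84, [2, 3, 4, 6, 7, 12, 14, 21, 28, 42], [4, 3, 7], [144]),
   (105, [3, 5, 7, 15, 21, 35], [3, 5, 7], [144]),
   (140, [2, 4, 5, 7, 10, 14, 20, 28, 35, 70], [4, 5, 7], [144]),
   (210, [2, 3, 5, 6, 7, 10, 14, 15, 21, 30, 35, 42, 70, 105], [2, 3, 5, 7], [144]),
   (8, [2, 4], [8], [80, 144]),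
   (24, [2, 3, 4, 6, 8, 12], [8, 3], [80, 144]),
   (40, [2, 4, 5, 8, 10, 20], [8, 5], [80, 144]),
   (56, [2, 4, 7, 8, 14, 28], [8, 7], [144]),
   (168, [2, 3, 4, 6, 7, 8, 12, 14, 21, 24, 28, 42, 56, 84], [8, 3, 7], [144]),
   (9, [3], [9], [90, 144]),
   (18, [2, 3, 6, 9], [2, 9], [90, 144]),
   (36, [2, 3, 4, 6, 9, 12, 18], [4, 9], [144]),
   (45, [3, 5, 9, 15], [9, 5], [144]),
   (63, [3, 7, 9, 21], [9, 7], [144]),
   (72, [2, 3, 4, 6, 8, 9, 12, 18, 24, 36], [8, 9], [144]),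
   (90, [2, 3, 5, 6, 9, 10, 15, 18, 30, 45], [2, 9, 5], [144]),
   (126, [2, 3, 6, 7, 9, 14, 18, 21, 42, 63], [2, 9, 7], [144]),
   (180, [2, 3, 4, 5, 6, 9, 10, 12, 15, 18, 20, 30, 36, 45, 60, 90], [4, 9, 5], [144]),
   (252, [2, 3, 4, 6, 7, 9, 12, 14, 18, 21, 28, 36, 42, 63, 84, 126], [4, 9, 7], [144]),
   (315, [3, 5, 7, 9, 15, 21, 35, 45, 63, 105], [9, 5, 7], [144]),
   (504, [2, 3, 4, 6, 7, 8, 9, 12, 14, 18, 21, 24, 28, 36, 42, 56, 63, 72, 84, 126, 168, 252], [8, 9, 7], [144]),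
   (630, [2, 3, 5, 6, 7, 9, 10, 14, 15, 18, 21, 30, 35, 42, 45, 63, 70, 90, 105, 126, 210, 315], [2, 9, 5, 7], [144]),
   (16, [2, 4, 8], [16], [80, 144]),
   (48, [2, 3, 4, 6, 8, 12, 16, 24], [16, 3], [80, 144]),
   (112, [2, 4, 7, 8, 14, 16, 28, 56], [16, 7], [144]),
   (144, [2, 3, 4, 6, 8, 9, 12, 16, 18, 24, 36, 48, 72], [16, 9], [144]),
   (25, [5], [25], [80]),
   (50, [2, 5, 10, 25], [2, 25], [80]),
   (75, [3, 5, 15, 25], [3, 25], [80]),
   (100, [2, 4, 5, 10, 20, 25, 50], [4, 25], [80]),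
   (150, [2, 3, 5, 6, 10, 15, 25, 30, 50, 75], [2, 3, 25], [80]),
   (200, [2, 4, 5, 8, 10, 20, 25, 40, 50, 100], [8, 25], [80]),
   (300, [2, 3, 4, 5, 6, 10, 12, 15, 20, 25, 30, 50, 60, 75, 100, 150], [4, 3, 25], [80]),
   (27, [3, 9], [27], [90, 144]),
   (54, [2, 3, 6, 9, 18, 27], [2, 27], [90, 144]),
   (108, [2, 3, 4, 6, 9, 12, 18, 27, 36, 54], [4, 27], [144]),
   (135, [3, 5, 9, 15, 27, 45], [27, 5], [144]),
   (216, [2, 3, 4, 6, 8, 9, 12, 18, 24, 27, 36, 54, 72, 108], [8, 27], [144]),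
   (270, [2, 3, 5, 6, 9, 10, 15, 18, 27, 30, 45, 54, 90, 135], [2, 27, 5], [144]),
   (432, [2, 3, 4, 6, 8, 9, 12, 16, 18, 24, 27, 36, 48, 54, 72, 108, 144, 216], [16, 27], [144]),
   (540, [2, 3, 4, 5, 6, 9, 10, 12, 15, 18, 20, 27, 30, 36, 45, 54, 60, 90, 108, 135, 180, 270], [4, 27, 5], [144]),
   (32, [2, 4, 8, 16], [32], [80, 144])]

def sol6 : List (ℕ × ℕ) := [(5, 144), (4, 90), (3, 80), (2, 45), (1, 1)]

theorem cert4 : rowsOk rows4 = true ∧ go [1, 3, 8] sol4 rows4 [(2, 3), (1, 1)] = true := by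
  decide +kernel

theorem cert5 : rowsOk rows5 = true ∧ go [1, 15, 20, 24] sol5 rows5 [(2, 15), (1, 1)] = true := by
  decide +kernel

theorem cert6 :
    rowsOk rows6 = true ∧ go [1, 45, 80, 90, 144] sol6 rows6 [(2, 45), (1, 1)] = true := by
  decide +kernel

end Cfsg.Agent.NseAlt
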