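/-
Soundness of the search certificate.
-/
import Cfsg.Agent.Lib.NseAlt.Cert

set_option autoImplicit false

namespace Cfsg.Agent.NseAlt

open Cfsg.Agent.S3995

variable {G : Type*} [Group G] [Finite G]

/-- The state of the search is faithful. -/
structure Inv (G : Type*) [Group G] (rest : List Row) (c : List (ℕ × ℕ)) : Prop where
  nodup : (c.map Prod.fst).Nodup
  val : ∀ p ∈ c, (∃ x : G, orderOf x = p.1) ∧ cnt G p.1 = p.2
  cover : ∀ x : G, orderOf x ∈ c.map Prod.fst ∨ ∃ r ∈ rest, orderOf x = r.1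

theorem has_iff {c : List (ℕ × ℕ)} {d : ℕ} : has c d = true ↔ d ∈ c.map Prod.fst := by
  simp [has]

theorem sum_eq {rest : List Row} {c : List (ℕ × ℕ)} (h : Inv G rest c) (m : ℕ) (hm : m ≠ 0)
    (hkeys : ∀ x : G, orderOf x ∣ m → orderOf x ∈ c.map Prod.fst) :
    (c.map fun p => if m % p.1 == 0 then p.2 else 0).sum = Nat.card {g : G // g ^ m = 1} := by
  rw [card_pow_eq_one m hm]
  have e : (c.map fun p => if m % p.1 == 0 then p.2 else 0) =
      (c.map Prod.fst).map (fun d => if d ∣ m then cnt G d else 0) := by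
    rw [List.map_map]
    refine List.map_congr_left fun p hp => ?_
    simp only [Function.comp, beq_iff_eq, ← Nat.dvd_iff_mod_eq_zero, (h.val p hp).2]
  rw [e, ← List.sum_toFinset _ h.nodup, ← Finset.sum_filter]
  refine Finset.sum_subset ?_ ?_
  · intro d hd
    exact Nat.mem_divisors.2 ⟨(Finset.mem_filter.1 hd).2, hm⟩
  · intro d hd hd'
    refine cnt_eq_zero fun ⟨x, hx⟩ => hd' (Finset.mem_filter.2 ⟨?_, (Nat.mem_divisors.1 hd).1⟩)
    rw [List.mem_toFinset, ← hx]
    exact hkeys x (hx ▸ (Nat.mem_divisors.1 hd).1)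

theorem ok_of {rest : List Row} {c : List (ℕ × ℕ)} (h : Inv G rest c) (m : ℕ)
    (hm : m ∣ Nat.card G) (hkeys : ∀ x : G, orderOf x ∣ m → orderOf x ∈ c.map Prod.fst) :
    ok c m = true := by
  have hm0 : m ≠ 0 := fun e => Nat.card_pos.ne' (Nat.zero_dvd.1 (e ▸ hm))
  rw [ok, sum_eq h m hm0 hkeys, beq_iff_eq, ← Nat.dvd_iff_mod_eq_zero]
  exact Counting.dvd_card_pow_eq_one m hm

omit [Finite G] in
theorem prod_dvd {N : ℕ} : ∀ l : List ℕ, List.Pairwise Nat.Coprime l → (∀ q ∈ l, q ∣ N) →
    l.prod ∣ N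
  | [], _, _ => by simp
  | a :: l, hp, hd => by
    rw [List.pairwise_cons] at hp
    rw [List.prod_cons]
    refine Nat.Coprime.mul_dvd_of_dvd_of_dvd ?_ (hd a (List.mem_cons_self ..))
      (prod_dvd l hp.2 fun q hq => hd q (List.mem_cons_of_mem _ hq))
    exact Nat.coprime_list_prod_right_iff.2 hp.1

theorem total_eq {c : List (ℕ × ℕ)} (h : Inv G [] c) : total c = Nat.card G := by
  have hk : ∀ x : G, orderOf x ∈ c.map Prod.fst := fun x => by
    rcases h.cover x with h | ⟨r, hr, -⟩
    · exact h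
    · cases hr
  have e := sum_eq h (Nat.card G) Nat.card_pos.ne' fun x _ => hk x
  have e2 : Nat.card {g : G // g ^ Nat.card G = 1} = Nat.card G :=
    Nat.card_congr (Equiv.subtypeUnivEquiv fun g => pow_card_eq_one')
  rw [← e2, ← e, total]
  refine congrArg List.sum (List.map_congr_left fun p hp => ?_)
  obtain ⟨x, hx⟩ := (h.val p hp).1
  rw [if_pos]
  rw [beq_iff_eq, ← Nat.dvd_iff_mod_eq_zero, ← hx]
  exact orderOf_dvd_natCard x

theorem leaf_sound (S : List ℕ) (sol c : List (ℕ × ℕ))
    (hcov : ∀ v ∈ S, ∃ x : G, cnt G (orderOf x) = v)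
    (hl : leaf S sol c = true) (h : Inv G [] c) : c = sol := by
  have hk : ∀ x : G, orderOf x ∈ c.map Prod.fst := fun x => by
    rcases h.cover x with h | ⟨r, hr, -⟩
    · exact h
    · cases hr
  simp only [leaf, Bool.or_eq_true, List.any_eq_true, beq_iff_eq, Bool.and_eq_true,
    decide_eq_true_eq, List.all_eq_true, List.mem_range, Bool.not_eq_true', List.contains_eq_mem,
    decide_eq_false_iff_not] at hl
  rcases hl with (hl | ⟨v, hv, hnv⟩) | ⟨n, -, ⟨hn2, hnN⟩, hn⟩
  · exact hl
  · exfalso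
    obtain ⟨x, hx⟩ := hcov v hv
    obtain ⟨p, hp, hpx⟩ := List.mem_map.1 (hk x)
    refine hnv (List.mem_map.2 ⟨p, hp, ?_⟩)
    rw [← (h.val p hp).2, hpx, hx]
  · exfalso
    rw [total_eq h, ← Nat.dvd_iff_mod_eq_zero] at hnN
    rcases hn with hn | hn
    · obtain ⟨p, hp, hpn⟩ := Nat.exists_prime_and_dvd (show n ≠ 1 by omega)
      haveI := Fact.mk hp
      obtain ⟨x, hx⟩ := exists_prime_orderOf_dvd_card' (G := G) p (hpn.trans hnN)
      have := hn p (hx ▸ hk x)
      rw [Nat.gcd_eq_right hpn] at this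
      exact hp.ne_one this
    · rw [ok_of h n hnN fun x _ => hk x] at hn
      cases hn

theorem go_sound (S : List ℕ) (sol : List (ℕ × ℕ))
    (hcov : ∀ v ∈ S, ∃ x : G, cnt G (orderOf x) = v) :
    ∀ (rest : List Row) (c : List (ℕ × ℕ)), rowsOk rest = true →
      (∀ r ∈ rest, (∃ x : G, orderOf x = r.1) → cnt G r.1 ∈ r.2.2.2) →
      (∀ r ∈ rest, r.1 ∉ c.map Prod.fst) →
      go S sol rest c = true → Inv G rest c → Inv G [] sol
  | [], c, _, _, _, hg, h => by
    have e := leaf_sound S sol c hcov hg h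
    exact e ▸ h
  | (m, need, pps, vals) :: rest, c, hr, hvals, hfresh, hg, h => by
    simp only [rowsOk, Bool.and_eq_true, decide_eq_true_eq, List.all_eq_true, Bool.not_eq_true',
      beq_iff_eq, beq_eq_false_iff_ne, ne_eq] at hr
    obtain ⟨⟨⟨⟨⟨hm2, hlater⟩, hneed⟩, hprod⟩, hpw⟩, hrest⟩ := hr
    simp only [go, Bool.and_eq_true, Bool.or_eq_true, Bool.not_eq_true', List.all_eq_true] at hg
    obtain ⟨hga, hgp⟩ := hg
    have hrec := go_sound S sol hcov rest
    have hnolater : ∀ x : G, orderOf x ∣ m → orderOf x ∈ c.map Prod.fst ∨ orderOf x = m := by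
      intro x hx
      rcases h.cover x with h' | ⟨r, hr, e⟩
      · exact Or.inl h'
      rcases List.mem_cons.1 hr with rfl | hr
      · exact Or.inr e
      · exfalso
        rw [e, Nat.dvd_iff_mod_eq_zero] at hx
        exact (hlater r hr).2 hx
    by_cases hex : ∃ x : G, orderOf x = m
    · obtain ⟨x₀, hx₀⟩ := hex
      have hall : ∀ d ∈ need, has c d = true := by
        intro d hd
        obtain ⟨hd1, hd2⟩ := hneed d hd
        have hdm : d ∣ m := Nat.dvd_of_mod_eq_zero hd1
        obtain ⟨y, hy⟩ := exists_orderOf_of_dvd (g := x₀) (hx₀ ▸ hdm)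
        rw [has_iff, ← hy]
        exact (hnolater y (hy ▸ hdm)).resolve_right (hy ▸ hd2)
      have hv := hvals _ (List.mem_cons_self ..) ⟨x₀, hx₀⟩
      have hInv : Inv G rest ((m, cnt G m) :: c) := by
        refine ⟨?_, ?_, fun x => ?_⟩
        · rw [List.map_cons, List.nodup_cons]
          exact ⟨hfresh _ (List.mem_cons_self ..), h.nodup⟩
        · intro p hp
          rcases List.mem_cons.1 hp with rfl | hp
          · exact ⟨⟨x₀, hx₀⟩, rfl⟩
          · exact h.val p hp
        · rcases h.cover x with h' | ⟨r, hr, e⟩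
          · exact Or.inl (List.mem_cons_of_mem _ h')
          · rcases List.mem_cons.1 hr with rfl | hr
            · exact Or.inl (by rw [e]; exact List.mem_cons_self ..)
            · exact Or.inr ⟨r, hr, e⟩
      have hok : ok ((m, cnt G m) :: c) m = true := ok_of hInv m (hx₀ ▸ orderOf_dvd_natCard x₀)
        fun x hx => by
          rcases hnolater x hx with h' | h'
          · exact List.mem_cons_of_mem _ h'
          · rw [h']; exact List.mem_cons_self ..
      rcases hgp with hgp | hgp
      · rw [List.all_eq_false] at hgp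
        obtain ⟨d, hd, hd'⟩ := hgp
        exact absurd (hall d hd) hd'
      · rcases hgp _ hv with h' | h'
        · rw [hok] at h'; cases h'
        · refine hrec _ hrest (fun r hr => hvals r (List.mem_cons_of_mem _ hr)) ?_ h' hInv
          intro r hr
          rw [List.map_cons, List.mem_cons, not_or]
          exact ⟨(hlater r hr).1, hfresh r (List.mem_cons_of_mem _ hr)⟩
    · have hInv : Inv G rest c := by
        refine ⟨h.nodup, h.val, fun x => ?_⟩
        rcases h.cover x with h' | ⟨r, hr, e⟩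
        · exact Or.inl h'
        · rcases List.mem_cons.1 hr with rfl | hr
          · exact absurd ⟨x, e⟩ hex
          · exact Or.inr ⟨r, hr, e⟩
      rcases hga with ⟨hpps, hnok⟩ | hga
      · exfalso
        have hmN : m ∣ Nat.card G := by
          rw [← hprod]
          refine prod_dvd pps hpw fun q hq => ?_
          obtain ⟨p, hp, rfl⟩ := List.mem_map.1 (has_iff.1 (hpps q hq))
          obtain ⟨x, hx⟩ := (h.val p hp).1
          exact hx ▸ orderOf_dvd_natCard x
        rw [ok_of h m hmN fun x hx => (hnolater x hx).resolve_right fun e => hex ⟨x, e⟩] at hnok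
        cases hnok
      · exact hrec _ hrest (fun r hr => hvals r (List.mem_cons_of_mem _ hr))
          (fun r hr => hfresh r (List.mem_cons_of_mem _ hr)) hga hInv

end Cfsg.Agent.NseAlt
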