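/-
Which element orders are possible, and the resulting count functions.
-/
import Cfsg.Agent.Lib.NseAlt.Sound

set_option autoImplicit false

namespace Cfsg.Agent.NseAlt

open Cfsg.Agent.S3995

theorem four_parts {d : ℕ} (h : d ∣ 32 * 27 * 25 * 7) :
    ∃ a ∈ Nat.divisors 32, ∃ b ∈ Nat.divisors 27, ∃ c ∈ Nat.divisors 25, ∃ e ∈ Nat.divisors 7,
      d = a * b * c * e ∧ Nat.totient d = Nat.totient a * Nat.totient b * Nat.totient c * Nat.totient e := by
  obtain ⟨abc, e, habc, he, rfl⟩ := Nat.dvd_mul.1 h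
  obtain ⟨ab, c, hab, hc, rfl⟩ := Nat.dvd_mul.1 habc
  obtain ⟨a, b, ha, hb, rfl⟩ := Nat.dvd_mul.1 hab
  refine ⟨a, Nat.mem_divisors.2 ⟨ha, by norm_num⟩, b, Nat.mem_divisors.2 ⟨hb, by norm_num⟩,
    c, Nat.mem_divisors.2 ⟨hc, by norm_num⟩, e, Nat.mem_divisors.2 ⟨he, by norm_num⟩, rfl, ?_⟩
  rw [Nat.totient_mul (Nat.Coprime.coprime_dvd_left habc (Nat.Coprime.coprime_dvd_right he (by norm_num))),
    Nat.totient_mul (Nat.Coprime.coprime_dvd_left hab (Nat.Coprime.coprime_dvd_right hc (by norm_num))),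
    Nat.totient_mul (Nat.Coprime.coprime_dvd_left ha (Nat.Coprime.coprime_dvd_right hb (by norm_num)))]

/-- Arithmetic facts on a value list and row list. -/
structure Table (S : List ℕ) (o : ℕ) (L : ℕ) (rows : List Row) : Prop where
  dvdL : L ∣ 32 * 27 * 25 * 7
  pos : L ≠ 0
  odd_o : Odd o
  o_mem : o ∈ S
  o_ne : o ≠ 1
  even : ∀ s ∈ S, s = 1 ∨ s = o ∨ Even s
  bound : ∀ s ∈ S, s ≤ 146
  primes : ∀ p < 148, p.Prime → p = 2 ∨ (∃ s ∈ S, (p - 1) ∣ s ∧ p ∣ 1 + s) → p ∣ L
  powers : ∀ p < 8, p.Prime → p ∣ L → ∀ s ∈ S, s ≠ 1 → s ≠ o →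
    ¬ Nat.totient (p ^ (L.factorization p + 1)) ∣ s
  small : ∀ p, p.Prime → p ∣ L → p < 8
  big : ∀ p < 8, p.Prime → p ∣ L → 2 < p ^ (L.factorization p + 1)
  complete : ∀ a ∈ Nat.divisors 32, ∀ b ∈ Nat.divisors 27, ∀ c ∈ Nat.divisors 25,
    ∀ e ∈ Nat.divisors 7, 2 < a * b * c * e → a * b * c * e ∣ L →
      (∃ s ∈ S, s ≠ 1 ∧ s ≠ o ∧
        Nat.totient a * Nat.totient b * Nat.totient c * Nat.totient e ∣ s) →
      a * b * c * e ∈ rows.map Prod.fst
  vals : ∀ a ∈ Nat.divisors 32, ∀ b ∈ Nat.divisors 27, ∀ c ∈ Nat.divisors 25,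
    ∀ e ∈ Nat.divisors 7, ∀ r ∈ rows, r.1 = a * b * c * e → ∀ s ∈ S, s ≠ 1 → s ≠ o →
      Nat.totient a * Nat.totient b * Nat.totient c * Nat.totient e ∣ s → s ∈ r.2.2.2
  fresh : ∀ r ∈ rows, 2 < r.1

theorem solve {G : Type*} [Group G] [Finite G] {S : List ℕ} {o L : ℕ} {rows : List Row}
    {sol : List (ℕ × ℕ)} (T : Table S o L rows)
    (cert : rowsOk rows = true ∧ go S sol rows [(2, o), (1, 1)] = true)
    (hval : ∀ x : G, cnt G (orderOf x) ∈ S) (hcov : ∀ v ∈ S, ∃ x : G, cnt G (orderOf x) = v) :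
    Inv G [] sol := by
  have hbig : ∀ x : G, 2 < orderOf x → cnt G (orderOf x) ≠ 1 ∧ cnt G (orderOf x) ≠ o ∧
      Nat.totient (orderOf x) ∣ cnt G (orderOf x) := by
    intro x hx
    have h1 := totient_dvd_cnt (G := G) (orderOf x)
    have h2 : 2 ∣ cnt G (orderOf x) := (Nat.totient_even hx).two_dvd.trans h1
    refine ⟨fun e => ?_, fun e => ?_, h1⟩
    · rw [e] at h2; omega
    · rw [e] at h2
      exact (Nat.not_even_iff_odd.2 T.odd_o) (even_iff_two_dvd.2 h2)
  obtain ⟨t, ht, htc⟩ : ∃ t : G, orderOf t = 2 ∧ cnt G 2 = o := by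
    obtain ⟨x, hx⟩ := hcov o T.o_mem
    have hne : orderOf x ≠ 1 := fun e => T.o_ne (by rw [← hx, e, cnt_one])
    have h2 : orderOf x = 2 := by
      by_contra h
      exact (hbig x (by have := orderOf_pos x; omega)).2.1 hx
    exact ⟨x, h2, h2 ▸ hx⟩
  have hprime : ∀ p, p.Prime → (∃ x : G, orderOf x = p) → p ∣ L := by
    rintro p hp ⟨x, hx⟩
    by_cases h2 : p = 2
    · exact T.primes 2 (by norm_num) Nat.prime_two (Or.inl rfl) |> fun h => h2 ▸ h
    · have h3 : 2 < orderOf x := by have := hp.two_le; omega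
      obtain ⟨-, -, hd⟩ := hbig x h3
      rw [hx, Nat.totient_prime hp] at hd
      have hs := hval x
      rw [hx] at hs
      haveI := Fact.mk hp
      have hdiv := Counting.dvd_card_pow_eq_one (G := G) p (hx ▸ orderOf_dvd_natCard x)
      rw [card_pow_eq_one p hp.ne_zero, hp.divisors, Finset.sum_pair hp.one_lt.ne, cnt_one] at hdiv
      have := Nat.le_of_dvd (by omega) hdiv
      have := T.bound _ hs
      exact T.primes p (by omega) hp (Or.inr ⟨_, hs, hd, hdiv⟩)
  have hL : ∀ x : G, orderOf x ∣ L := by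
    intro x
    rw [← Nat.factorization_le_iff_dvd (orderOf_pos x).ne' T.pos]
    intro p
    by_cases hp : p.Prime
    · by_contra hlt
      rw [not_le] at hlt
      have hdvd : p ^ (L.factorization p + 1) ∣ orderOf x :=
        (Nat.pow_dvd_pow p hlt).trans (Nat.ordProj_dvd _ _)
      obtain ⟨y, hy⟩ := exists_orderOf_of_dvd hdvd
      obtain ⟨z, hz⟩ := exists_orderOf_of_dvd ((dvd_pow_self p (by omega)).trans hdvd)
      have hpL := hprime p hp ⟨z, hz⟩
      have hp8 := T.small p hp hpL
      obtain ⟨h1, h2, h3⟩ := hbig y (hy ▸ T.big p hp8 hp hpL)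
      refine T.powers p hp8 hp hpL _ (hval y) h1 h2 ?_
      rw [← hy]
      exact h3
    · simp [Nat.factorization_eq_zero_of_not_prime _ hp]
  have hmem : ∀ x : G, orderOf x ∈ [2, 1] ∨ ∃ r ∈ rows, orderOf x = r.1 := by
    intro x
    by_cases h : orderOf x ≤ 2
    · left
      have := orderOf_pos x
      simp only [List.mem_cons, List.not_mem_nil, or_false]
      omega
    · right
      obtain ⟨h1, h2, h3⟩ := hbig x (by omega)
      obtain ⟨a, ha, b, hb, c, hc, e, he, heq, htot⟩ := four_parts ((hL x).trans T.dvdL)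
      have := T.complete a ha b hb c hc e he (by omega) (heq ▸ hL x)
        ⟨_, hval x, h1, h2, htot ▸ h3⟩
      obtain ⟨r, hr, hre⟩ := List.mem_map.1 this
      exact ⟨r, hr, by rw [heq, hre]⟩
  refine go_sound S sol hcov rows _ cert.1 ?_ ?_ cert.2 ⟨by simp, ?_, ?_⟩
  · rintro r hr ⟨x, hx⟩
    obtain ⟨h1, h2, h3⟩ := hbig x (hx ▸ T.fresh r hr)
    obtain ⟨a, ha, b, hb, c, hc, e, he, heq, htot⟩ := four_parts ((hL x).trans T.dvdL)
    rw [← hx]
    exact T.vals a ha b hb c hc e he r hr (hx ▸ heq) _ (hval x) h1 h2 (htot ▸ h3)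
  · intro r hr
    have := T.fresh r hr
    simp only [List.map_cons, List.map_nil, List.mem_cons, List.not_mem_nil, or_false]
    omega
  · intro p hp
    simp only [List.mem_cons, List.not_mem_nil, or_false] at hp
    rcases hp with rfl | rfl
    · exact ⟨⟨t, ht⟩, htc⟩
    · exact ⟨⟨1, orderOf_one⟩, cnt_one⟩
  · simpa using hmem

theorem prime_lt_eight {L p : ℕ} (hL : L ∣ 32 * 27 * 25 * 7) (hp : p.Prime) (h : p ∣ L) : p < 8 := by
  have h' := h.trans hL
  rcases (Nat.Prime.dvd_mul hp).1 h' with h' | h'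
  · rcases (Nat.Prime.dvd_mul hp).1 h' with h' | h'
    · rcases (Nat.Prime.dvd_mul hp).1 h' with h' | h'
      · have := (Nat.prime_dvd_prime_iff_eq hp Nat.prime_two).1 (hp.dvd_of_dvd_pow (n := 5) h')
        omega
      · have := (Nat.prime_dvd_prime_iff_eq hp Nat.prime_three).1 (hp.dvd_of_dvd_pow (n := 3) h')
        omega
    · have := (Nat.prime_dvd_prime_iff_eq hp Nat.prime_five).1 (hp.dvd_of_dvd_pow (n := 2) h')
      omega
  · have := Nat.le_of_dvd (by norm_num) h'
    omega

theorem fact48 : ∀ p < 8, p.Prime → p ∣ 48 → (48 : ℕ).factorization p = if p = 2 then 4 else 1 := by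
  intro p hp hpp hd
  interval_cases p <;> first | (norm_num at hpp; done) | (norm_num at hd; done) | skip
  all_goals rw [show (48 : ℕ) = 2 ^ 4 * 3 ^ 1 by norm_num, Nat.factorization_mul (by norm_num) (by norm_num),
    Nat.Prime.factorization_pow Nat.prime_two, Nat.Prime.factorization_pow Nat.prime_three]
  all_goals simp

theorem fact3600 : ∀ p < 8, p.Prime → p ∣ 3600 →
    (3600 : ℕ).factorization p = if p = 2 then 4 else 2 := by
  intro p hp hpp hd
  interval_cases p <;> first | (norm_num at hpp; done) | (norm_num at hd; done) | skip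
  all_goals rw [show (3600 : ℕ) = 2 ^ 4 * 3 ^ 2 * 5 ^ 2 by norm_num,
    Nat.factorization_mul (by norm_num) (by norm_num), Nat.factorization_mul (by norm_num) (by norm_num),
    Nat.Prime.factorization_pow Nat.prime_two, Nat.Prime.factorization_pow Nat.prime_three,
    Nat.Prime.factorization_pow Nat.prime_five]
  all_goals simp

theorem fact151200 : ∀ p < 8, p.Prime → p ∣ 151200 →
    (151200 : ℕ).factorization p = if p = 2 then 5 else if p = 3 then 3 else if p = 5 then 2 else 1 := by
  intro p hp hpp hd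
  interval_cases p <;> first | (norm_num at hpp; done) | (norm_num at hd; done) | skip
  all_goals rw [show (151200 : ℕ) = 2 ^ 5 * 3 ^ 3 * 5 ^ 2 * 7 ^ 1 by norm_num,
    Nat.factorization_mul (by norm_num) (by norm_num), Nat.factorization_mul (by norm_num) (by norm_num),
    Nat.factorization_mul (by norm_num) (by norm_num),
    Nat.Prime.factorization_pow Nat.prime_two, Nat.Prime.factorization_pow Nat.prime_three,
    Nat.Prime.factorization_pow Nat.prime_five,
    Nat.Prime.factorization_pow (show Nat.Prime 7 by norm_num)]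
  all_goals simp

theorem table4 : Table [1, 3, 8] 3 48 rows4 where
  dvdL := by norm_num
  pos := by norm_num
  odd_o := by decide
  o_mem := by decide
  o_ne := by decide
  even := by decide
  bound := by decide
  primes := by decide +kernel
  powers := fun p h hp hd => by
    rw [fact48 p h hp hd]
    revert p
    decide +kernel
  small := fun _ hp hd => prime_lt_eight (by norm_num) hp hd
  big := fun p h hp hd => by
    rw [fact48 p h hp hd]
    revert p
    decide +kernel
  complete := by decide +kernel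
  vals := by decide +kernel
  fresh := by decide

theorem table5 : Table [1, 15, 20, 24] 15 3600 rows5 where
  dvdL := by norm_num
  pos := by norm_num
  odd_o := by decide
  o_mem := by decide
  o_ne := by decide
  even := by decide
  bound := by decide
  primes := by decide +kernel
  powers := fun p h hp hd => by
    rw [fact3600 p h hp hd]
    revert p
    decide +kernel
  small := fun _ hp hd => prime_lt_eight (by norm_num) hp hd
  big := fun p h hp hd => by
    rw [fact3600 p h hp hd]
    revert p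
    decide +kernel
  complete := by decide +kernel
  vals := by decide +kernel
  fresh := by decide

theorem table6 : Table [1, 45, 80, 90, 144] 45 151200 rows6 where
  dvdL := by norm_num
  pos := by norm_num
  odd_o := by decide
  o_mem := by decide
  o_ne := by decide
  even := by decide
  bound := by decide
  primes := by decide +kernel
  powers := fun p h hp hd => by
    rw [fact151200 p h hp hd]
    revert p
    decide +kernel
  small := fun _ hp hd => prime_lt_eight (by norm_num) hp hd
  big := fun p h hp hd => by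
    rw [fact151200 p h hp hd]
    revert p
    decide +kernel
  complete := by decide +kernel
  vals := by decide +kernel
  fresh := by decide

end Cfsg.Agent.NseAlt
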